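import Groth.Agent.LiaisonLib.Poly
import Groth.Agent.LiaisonLib.ACI
import Groth.Agent.GorLib.MCM
import Groth.Agent.CatLib.CM

/-! # Linkage preserves the Cohen–Macaulay property -/

set_option autoImplicit false
set_option backward.isDefEq.respectTransparency false
set_option backward.isDefEq.respectTransparency.types false

universe u

open IsLocalRing RingTheory.Sequence CommAlgDim

namespace CMLinkLib

/-- The annihilator of a maximal Cohen–Macaulay ideal of a Gorenstein local ring has Cohen–Macaulay quotient. -/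
theorem cm_link_local {T : Type u} [CommRing T] [LocCoh.IsGorensteinLocalRing T] {d : ℕ} (hd : ringKrullDim T = d)
    (I J : Ideal T) [LocCoh.IsCohenMacaulayLocalRing (T ⧸ I)] (hId : ringKrullDim (T ⧸ I) = d)
    (hJ : ∀ a, a ∈ J ↔ ∀ b ∈ I, a * b = 0) (hne : J ≠ ⊤) : LocCoh.IsCohenMacaulayLocalRing (T ⧸ J) := by
  obtain ⟨xs, hxs, hlen⟩ := GorLib.isCM_of_gorenstein (R := T)
  have hxl : xs.length = d := by
    rw [hd] at hlen
    exact_mod_cast hlen.symm
  have hm : ∀ x ∈ xs, x ∈ maximalIdeal T := fun x hx => mem_maximalIdeal_of_isRegular hxs x hx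
  have hI := GorLib.hasSeqIn_of_cm I hId
  have hJann : Submodule.annihilator I = J := by
    ext a
    rw [hJ, Submodule.mem_annihilator]
    rfl
  have hweak := hxs.toIsWeaklyRegular
  have hreg : IsWeaklyRegular (T ⧸ J) xs := by
    refine ⟨fun i hi => ?_⟩
    have hpre : IsWeaklyRegular T (xs.take i) := ⟨fun j hj => by
      have hji : j < i := lt_of_lt_of_le hj (by rw [List.length_take]; exact min_le_left _ _)
      have hjl : j < xs.length := lt_of_lt_of_le hj (by rw [List.length_take]; exact min_le_right _ _)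
      have h := hweak.regular_mod_prev j hjl
      rw [List.getElem_take, List.take_take, min_eq_left hji.le]
      exact h⟩
    obtain ⟨-, hcol, -⟩ := GorLib.mcm_colon _ T d hd I hI (xs.take i) rfl hpre
      fun x hx => hm x (List.mem_of_mem_take hx)
    rw [hJann] at hcol
    have hT := hweak.regular_mod_prev i hi
    have hsm : ∀ (a : T), a ∈ (Ideal.ofList (xs.take i) • ⊤ : Submodule T T) ↔ a ∈ Ideal.ofList (xs.take i) := by
      intro a
      rw [smul_eq_mul, Ideal.mul_top]
    have hsq : ∀ (a : T), (Submodule.Quotient.mk a : T ⧸ J) ∈ (Ideal.ofList (xs.take i) • ⊤ : Submodule T (T ⧸ J)) ↔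
        a ∈ J ⊔ Ideal.ofList (xs.take i) := by
      intro a
      rw [show (Ideal.ofList (xs.take i) • ⊤ : Submodule T (T ⧸ J)) =
        Submodule.map J.mkQ (Ideal.ofList (xs.take i) : Submodule T T) by
          rw [← J.range_mkQ, ← Submodule.map_top, ← Submodule.map_smul'', smul_eq_mul, Ideal.mul_top]]
      rw [← Submodule.mkQ_apply, ← Submodule.mem_comap, Submodule.comap_map_eq, Submodule.ker_mkQ, sup_comm]
    refine IsSMulRegular.of_right_eq_zero_of_smul fun z hz => ?_
    obtain ⟨z, rfl⟩ := Submodule.Quotient.mk_surjective _ z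
    obtain ⟨a, rfl⟩ := Submodule.Quotient.mk_surjective _ z
    rw [← Submodule.Quotient.mk_smul, Submodule.Quotient.mk_eq_zero, ← Submodule.Quotient.mk_smul, hsq] at hz
    rw [Submodule.Quotient.mk_eq_zero, hsq]
    refine hcol a fun b hb => ?_
    have h1 : xs[i] * (a * b) ∈ Ideal.ofList (xs.take i) := by
      obtain ⟨j, hj, s, hs, hjs⟩ := Submodule.mem_sup.1 hz
      rw [← mul_assoc]
      change j + s = xs[i] * a at hjs
      rw [← hjs, add_mul, (hJ j).1 hj b hb, zero_add]
      exact Ideal.mul_mem_right _ _ hs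
    have h2 := hT.right_eq_zero_of_smul (x := Submodule.Quotient.mk (a * b)) (by
      rw [← Submodule.Quotient.mk_smul, Submodule.Quotient.mk_eq_zero, hsm]
      exact h1)
    exact (hsm _).1 ((Submodule.Quotient.mk_eq_zero _).1 h2)
  haveI : Nontrivial (T ⧸ J) := Ideal.Quotient.nontrivial_iff.2 hne
  haveI : IsLocalRing (T ⧸ J) := IsLocalRing.of_surjective' (Ideal.Quotient.mk J) Ideal.Quotient.mk_surjective
  have hseq : HasSeqIn (maximalIdeal (T ⧸ J)) (T ⧸ J) d := by
    refine ⟨xs.map (algebraMap T (T ⧸ J)), by rw [List.length_map, hxl], ?_, ?_⟩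
    · intro r hr
      obtain ⟨x, hx, rfl⟩ := List.mem_map.1 hr
      rw [← IsLocalRing.map_maximalIdeal_of_surjective (algebraMap T (T ⧸ J)) Ideal.Quotient.mk_surjective]
      exact Ideal.mem_map_of_mem _ (hm x hx)
    · exact (isWeaklyRegular_map_algebraMap_iff (T ⧸ J) (T ⧸ J) xs).2 hreg
  exact SMTLib.isCohenMacaulayLocalRing_of_isCM _ (CatLib.isCM_of_hasSeqIn hseq
    ((ringKrullDim_quotient_le J).trans hd.le))

variable {K : Type u} [Field K] {n c : ℕ}

local notation "S" => MvPolynomial (Fin (n + 1)) K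

theorem cm_link {A : Type u} [CommRing A] [IsRegularRing A] {𝔠 I J : Ideal A}
    (hG : LocCoh.IsGorensteinRing (A ⧸ 𝔠)) (hJ : 𝔠.colon (I : Set A) = J)
    (hI : LocCoh.IsCohenMacaulayRing (A ⧸ I)) (hcI : 𝔠 ≤ I)
    (hh : ∀ M : Ideal A, M.IsPrime → I ≤ M → ∃ P ∈ I.minimalPrimes, ∃ Q ∈ 𝔠.minimalPrimes,
      P ≤ M ∧ Q ≤ M ∧ P.height = Q.height) :
    LocCoh.IsCohenMacaulayRing (A ⧸ J) := by
  haveI : IsNoetherianRing A := inferInstance
  refine ⟨fun p hp => ?_⟩
  let M := p.comap (Ideal.Quotient.mk J)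
  haveI : M.IsPrime := Ideal.IsPrime.comap _
  have hJM : J ≤ M := fun x hx => by
    rw [Ideal.mem_comap, Ideal.Quotient.eq_zero_iff_mem.2 hx]
    exact p.zero_mem
  have hcJ : 𝔠 ≤ J := hJ ▸ LiaisonLib.le_colon 𝔠 _
  have hcM : 𝔠 ≤ M := hcJ.trans hJM
  obtain ⟨hp', ⟨e⟩⟩ := LiaisonLib.exists_quot_equiv hJM
  have hMp : M.map (Ideal.Quotient.mk J) = p := Ideal.map_comap_of_surjective _ Ideal.Quotient.mk_surjective _
  let B := Localization.AtPrime M
  let al := algebraMap A B
  suffices h : LocCoh.IsCohenMacaulayLocalRing (B ⧸ J.map al) by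
    have h2 := SMTLib.isCohenMacaulayLocalRing_of_ringEquiv e
    revert h2
    generalize hQ : M.map (Ideal.Quotient.mk J) = Q at hp'
    obtain rfl := hQ.symm.trans hMp
    exact id
  haveI : IsNoetherianRing B := IsLocalization.isNoetherianRing M.primeCompl _ inferInstance
  obtain ⟨hq, ⟨eG⟩⟩ := LiaisonLib.exists_quot_equiv hcM
  haveI := hq
  haveI hT : LocCoh.IsGorensteinLocalRing (B ⧸ 𝔠.map al) :=
    GorLib.gorenstein_of_ringEquiv eG (hG.isGorensteinLocalRing_localization (M.map (Ideal.Quotient.mk 𝔠)))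
  let π := Ideal.Quotient.mk (𝔠.map al)
  let T := B ⧸ 𝔠.map al
  let IT : Ideal T := (I.map al).map π
  let JT : Ideal T := (J.map al).map π
  have hcJB : 𝔠.map al ≤ J.map al := Ideal.map_mono hcJ
  have hcIB : 𝔠.map al ≤ I.map al := Ideal.map_mono hcI
  let eJ : (T ⧸ JT) ≃+* (B ⧸ J.map al) := DoubleQuot.quotQuotEquivQuotOfLE hcJB
  suffices h : LocCoh.IsCohenMacaulayLocalRing (T ⧸ JT) by
    haveI := h
    exact SMTLib.isCohenMacaulayLocalRing_of_ringEquiv (A := T ⧸ JT) (B := B ⧸ J.map al) eJ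
  obtain ⟨G, hG'⟩ := IsNoetherian.noetherian I
  have hmemJT : ∀ t : T, t ∈ JT ↔ ∀ b ∈ IT, t * b = 0 := by
    intro t
    obtain ⟨t, rfl⟩ := Ideal.Quotient.mk_surjective t
    obtain ⟨a, s, rfl⟩ := IsLocalization.exists_mk'_eq M.primeCompl t
    rw [← Ideal.mem_comap, Ideal.comap_map_of_surjective π Ideal.Quotient.mk_surjective, ← RingHom.ker_eq_comap_bot,
      Ideal.mk_ker, sup_eq_left.2 hcJB, IsLocalization.mk'_mem_map_algebraMap_iff]
    constructor
    · rintro ⟨u, hu, hua⟩ b hb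
      rw [← hJ] at hua
      refine Submodule.span_induction (p := fun b _ => π (IsLocalization.mk' B a s) * b = 0) ?_ (mul_zero _)
        (fun x y _ _ hx hy => by rw [mul_add, hx, hy, add_zero])
        (fun r x _ hx => by rw [smul_eq_mul, mul_left_comm, hx, mul_zero]) hb
      rintro _ ⟨y, hy, rfl⟩
      rw [← map_mul, Ideal.Quotient.eq_zero_iff_mem]
      refine Submodule.span_induction (p := fun y _ => IsLocalization.mk' B a s * y ∈ 𝔠.map al) ?_
        (by rw [mul_zero]; exact zero_mem _) (fun x y _ _ hx hy => by rw [mul_add]; exact add_mem hx hy)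
        (fun r x _ hx => by rw [smul_eq_mul, mul_left_comm]; exact Ideal.mul_mem_left _ _ hx) hy
      rintro _ ⟨i, hi, rfl⟩
      rw [mul_comm, IsLocalization.mul_mk'_eq_mk'_of_mul, IsLocalization.mk'_mem_map_algebraMap_iff]
      exact ⟨u, hu, by rw [← mul_assoc, mul_right_comm]; exact Submodule.mem_colon.1 hua i hi⟩
    · intro h
      have h1 : ∀ g ∈ G, ∃ u ∈ M.primeCompl, u * (g * a) ∈ 𝔠 := fun g hg => by
        have h2 := h (π (al g)) (Ideal.mem_map_of_mem π (Ideal.mem_map_of_mem al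
          (hG' ▸ Submodule.subset_span (Finset.mem_coe.2 hg))))
        rw [← map_mul, Ideal.Quotient.eq_zero_iff_mem, mul_comm, IsLocalization.mul_mk'_eq_mk'_of_mul,
          IsLocalization.mk'_mem_map_algebraMap_iff] at h2
        exact h2
      choose! u hu hu' using h1
      refine ⟨∏ g ∈ G, u g, Submonoid.prod_mem _ fun g hg => hu g hg, ?_⟩
      rw [← hJ, Submodule.mem_colon]
      intro i hi
      rw [smul_eq_mul]
      have hi' : i ∈ Submodule.span A (G : Set A) := hG' ▸ hi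
      refine Submodule.span_induction (p := fun i _ => (∏ g ∈ G, u g) * a * i ∈ 𝔠) ?_
        (by rw [mul_zero]; exact zero_mem _) (fun x y _ _ hx hy => by rw [mul_add]; exact add_mem hx hy)
        (fun r x _ hx => by rw [smul_eq_mul, mul_left_comm]; exact Ideal.mul_mem_left _ _ hx) hi'
      intro g hg
      obtain ⟨w, hw⟩ := Finset.dvd_prod_of_mem u hg
      rw [hw, show u g * w * a * g = w * (u g * (g * a)) by ring]
      exact Ideal.mul_mem_left _ _ (hu' g hg)
  have hneJT : JT ≠ ⊤ := by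
    intro h1
    have h2 : J.map al ≤ maximalIdeal B := by
      rw [← Localization.AtPrime.map_eq_maximalIdeal]
      exact Ideal.map_mono hJM
    have h3 : (1 : T) ∈ JT := h1 ▸ Submodule.mem_top
    rw [← map_one π, ← Ideal.mem_comap, Ideal.comap_map_of_surjective π Ideal.Quotient.mk_surjective,
      ← RingHom.ker_eq_comap_bot, Ideal.mk_ker, sup_eq_left.2 hcJB] at h3
    exact (maximalIdeal.isMaximal B).ne_top ((Ideal.eq_top_iff_one _).2 (h2 h3))
  by_cases hIM : I ≤ M
  · obtain ⟨P, hP, Q, hQ, hPM, hQM, hPQ⟩ := hh M inferInstance hIM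
    have hA := LiaisonLib.ringKrullDim_quotient_map_add_height hI hP hPM
    have hB := LiaisonLib.ringKrullDim_quotient_map_add_height
      (LiaisonLib.isCohenMacaulayRing_of_gorenstein hG) hQ hQM
    obtain ⟨d, hd⟩ := exists_ringKrullDim_eq (R := T)
    let eI : (T ⧸ IT) ≃+* (B ⧸ I.map al) := DoubleQuot.quotQuotEquivQuotOfLE hcIB
    obtain ⟨hqI, ⟨eI'⟩⟩ := LiaisonLib.exists_quot_equiv hIM
    haveI := hqI
    haveI := hI.isCohenMacaulayLocalRing_localization (M.map (Ideal.Quotient.mk I))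
    haveI hTI : LocCoh.IsCohenMacaulayLocalRing (T ⧸ IT) :=
      haveI := SMTLib.isCohenMacaulayLocalRing_of_ringEquiv eI'.symm
      SMTLib.isCohenMacaulayLocalRing_of_ringEquiv eI.symm
    have hdI : ringKrullDim (T ⧸ IT) = d := by
      rw [ringKrullDim_eq_of_ringEquiv eI]
      rw [hd, ← hA, ← hPQ] at hB
      obtain ⟨h0, hh0⟩ := ENat.ne_top_iff_exists.1 (Ideal.height_ne_top hP.1.1.ne_top)
      rw [← hh0] at hB
      generalize ringKrullDim (B ⧸ I.map al) = D at hB ⊢
      induction D with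
      | bot =>
        rw [WithBot.bot_add] at hB
        exact absurd hB (WithBot.coe_ne_bot (a := ((d : ℕ∞) + (h0 : ℕ∞))))
      | coe D =>
        induction D using ENat.recTopCoe with
        | top =>
          have h5 : ((d : ℕ∞) + (h0 : ℕ∞)) = ⊤ + (h0 : ℕ∞) := WithBot.coe_inj.1 hB
          rw [top_add] at h5
          exact absurd h5 (by rw [← ENat.coe_add]; exact ENat.natCast_ne_top _)
        | coe m =>
          have h5 : d + h0 = m + h0 := by exact_mod_cast hB
          have h6 : d = m := Nat.add_right_cancel h5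
          rw [h6]
          rfl
    exact cm_link_local hd IT JT hdI hmemJT hneJT
  · obtain ⟨x, hxI, hxM⟩ := Set.not_subset.1 hIM
    have hJT : JT = ⊥ := eq_bot_iff.2 fun t ht => by
      have hu : IsUnit (π (al x)) := (IsLocalization.map_units B (⟨x, hxM⟩ : M.primeCompl)).map π
      exact hu.mul_left_eq_zero.1 ((hmemJT t).1 ht _ (Ideal.mem_map_of_mem π (Ideal.mem_map_of_mem al hxI)))
    haveI := SMTLib.isCohenMacaulayLocalRing_of_isCM _ (GorLib.isCM_of_gorenstein (R := T))
    exact SMTLib.isCohenMacaulayLocalRing_of_ringEquiv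
      ((Ideal.quotEquivOfEq hJT).trans (RingEquiv.quotientBot T)).symm

/-- Linkage by a homogeneous Gorenstein ideal of the polynomial ring preserves Cohen–Macaulayness. -/
theorem cm_link_poly {𝔠 I J : Ideal S} (h𝔠 : 𝔠.IsHomogeneous (GrSyz.stdGr K (Fin (n + 1))))
    (hI : I.IsHomogeneous (GrSyz.stdGr K (Fin (n + 1)))) (hG : LocCoh.IsGorensteinRing (S ⧸ 𝔠))
    (h𝔠c : 𝔠.height = c) (hIJ : 𝔠.colon (I : Set S) = J) (hJI : 𝔠.colon (J : Set S) = I)
    (hCM : LocCoh.IsCohenMacaulayRing (S ⧸ I)) : LocCoh.IsCohenMacaulayRing (S ⧸ J) := by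
  have hcm𝔠 := LiaisonLib.isCohenMacaulayRing_of_gorenstein hG
  refine cm_link hG hIJ hCM (hJI ▸ LiaisonLib.le_colon 𝔠 _) fun M _ hIM => ?_
  obtain ⟨P, hP, hPM⟩ := Ideal.exists_minimalPrimes_le hIM
  obtain ⟨Q, hQ, hQM⟩ := Ideal.exists_minimalPrimes_le ((hJI ▸ LiaisonLib.le_colon 𝔠 _ : 𝔠 ≤ I).trans hIM)
  refine ⟨P, hP, Q, hQ, hPM, hQM, ?_⟩
  have h1 := LiaisonLib.mem_associatedPrimes_of_minimal hP
  rw [← hJI] at h1
  rw [LiaisonLib.height_of_mem_associatedPrimes h𝔠 hcm𝔠 (LiaisonLib.associatedPrimes_colon h1),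
    LiaisonLib.height_of_mem_associatedPrimes h𝔠 hcm𝔠 (LiaisonLib.mem_associatedPrimes_of_minimal hQ)]

end CMLinkLib
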