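import Groth.Agent.LiaisonLib.Link
import Groth.Agent.LiaisonLib.ACI
import Groth.Agent.LiaisonLib.Poly
import Groth.Agent.GorLib.MCM
import Groth.Agent.CMLinkLib.Main

/-! # Geometrically linked ideals: the sum is Gorenstein -/

set_option autoImplicit false
set_option backward.isDefEq.respectTransparency false
set_option backward.isDefEq.respectTransparency.types false

universe u

open IsLocalRing RingTheory.Sequence CommAlgDim Pointwise

namespace CMLinkLib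

theorem hasSeqIn_quot {T : Type u} [CommRing T] [IsLocalRing T] [IsNoetherianRing T] {x : T} (hxm : x ∈ maximalIdeal T)
    [IsLocalRing (T ⧸ Ideal.span {x})] {d : ℕ} (I : Ideal T) (hI : HasSeqIn (maximalIdeal T) (T ⧸ I) (d + 1))
    (hxI : IsSMulRegular (T ⧸ I) x) :
    HasSeqIn (maximalIdeal (T ⧸ Ideal.span {x}))
      ((T ⧸ Ideal.span {x}) ⧸ I.map (Ideal.Quotient.mk (Ideal.span {x}))) d := by
  let A' := T ⧸ Ideal.span {x}
  let π : T →+* A' := Ideal.Quotient.mk _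
  let I' := I.map π
  let φ : (T ⧸ I) →ₗ[T] (A' ⧸ I') := Submodule.mapQ I (I'.restrictScalars T) (Algebra.linearMap T A')
    fun a ha => Ideal.mem_map_of_mem π ha
  have hker : x • (⊤ : Submodule T (T ⧸ I)) = LinearMap.ker φ := by
    ext z
    obtain ⟨a, rfl⟩ := Submodule.Quotient.mk_surjective _ z
    rw [LinearMap.mem_ker, show φ (Submodule.Quotient.mk a) = Submodule.Quotient.mk (π a) from rfl,
      Submodule.Quotient.mk_eq_zero, Submodule.mem_smul_pointwise_iff_exists]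
    have hI' : π a ∈ I' ↔ a ∈ I ⊔ Ideal.span {x} := by
      rw [← Ideal.mem_comap, Ideal.comap_map_of_surjective π Ideal.Quotient.mk_surjective,
        ← RingHom.ker_eq_comap_bot, Ideal.mk_ker]
    show _ ↔ π a ∈ I'
    rw [hI', Submodule.mem_sup]
    constructor
    · rintro ⟨w, -, hw⟩
      obtain ⟨w, rfl⟩ := Submodule.Quotient.mk_surjective _ w
      rw [← Submodule.Quotient.mk_smul, Submodule.Quotient.eq] at hw
      exact ⟨-(x • w - a), I.neg_mem hw, x * w, Ideal.mem_span_singleton'.2 ⟨w, mul_comm _ _⟩, by rw [smul_eq_mul]; ring⟩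
    · rintro ⟨i, hi, s, hs, rfl⟩
      obtain ⟨c, rfl⟩ := Ideal.mem_span_singleton'.1 hs
      refine ⟨Submodule.Quotient.mk c, trivial, ?_⟩
      rw [← Submodule.Quotient.mk_smul, Submodule.Quotient.eq, smul_eq_mul, show x * c - (i + c * x) = -i by ring]
      exact I.neg_mem hi
  have hφs : Function.Surjective φ := fun z => by
    obtain ⟨z, rfl⟩ := Submodule.Quotient.mk_surjective _ z
    obtain ⟨a, rfl⟩ := Ideal.Quotient.mk_surjective z
    exact ⟨Submodule.Quotient.mk a, rfl⟩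
  let e : QuotSMulTop x (T ⧸ I) ≃ₗ[T] (A' ⧸ I') :=
    (Submodule.quotEquivOfEq _ _ hker).trans (φ.quotKerEquivOfSurjective hφs)
  obtain ⟨rs, hl', hm', hr'⟩ := hI.quotSMulTop hxm hxI
  refine ⟨rs.map π, by simp [hl'], ?_, ?_⟩
  · intro r hr
    obtain ⟨a, ha, rfl⟩ := List.mem_map.1 hr
    rw [← IsLocalRing.map_maximalIdeal_of_surjective π Ideal.Quotient.mk_surjective]
    exact Ideal.mem_map_of_mem π (hm' a ha)
  · exact (isWeaklyRegular_map_algebraMap_iff A' (A' ⧸ I') rs).2 ((e.isWeaklyRegular_congr rs).1 hr')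

theorem socle_lift {T : Type u} [CommRing T] [IsLocalRing T] {I₁ I₂ : Ideal T}
    (h0 : ∀ a, a ∈ I₁ → a ∈ I₂ → a = 0) {x : T} (hxm : x ∈ maximalIdeal T)
    (hx₁ : IsSMulRegular (T ⧸ I₁) x) (hx₂ : IsSMulRegular (T ⧸ I₂) x) {t : T}
    (ht : ∀ m ∈ maximalIdeal T, m * t ∈ I₁ ⊔ I₂) :
    ∃ i₁ ∈ I₁, ∃ i₂ ∈ I₂, x * t = i₁ + i₂ ∧ (∀ m ∈ maximalIdeal T, m * i₂ ∈ Ideal.span {x}) ∧
      (i₂ ∈ Ideal.span {x} → t ∈ I₁ ⊔ I₂) := by
  have hmk : ∀ {I : Ideal T} {a : T}, IsSMulRegular (T ⧸ I) x → x * a ∈ I → a ∈ I := fun {I a} hr ha => by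
    rw [← Ideal.Quotient.eq_zero_iff_mem] at ha ⊢
    refine hr.right_eq_zero_of_smul ?_
    show Ideal.Quotient.mk I (x * a) = 0
    exact ha
  obtain ⟨i₁, h₁, i₂, h₂, he⟩ := Submodule.mem_sup.1 (ht x hxm)
  refine ⟨i₁, h₁, i₂, h₂, he.symm, fun m hm => ?_, fun hi => ?_⟩
  · obtain ⟨j₁, g₁, j₂, g₂, hj⟩ := Submodule.mem_sup.1 (ht m hm)
    have h3 : x * j₂ - m * i₂ = m * i₁ - x * j₁ := by linear_combination x * hj - m * he
    have h4 := h0 _ (h3 ▸ I₁.sub_mem (I₁.mul_mem_left _ h₁) (I₁.mul_mem_left _ g₁) : x * j₂ - m * i₂ ∈ I₁)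
      (I₂.sub_mem (I₂.mul_mem_left _ g₂) (I₂.mul_mem_left _ h₂))
    rw [sub_eq_zero] at h4
    exact Ideal.mem_span_singleton'.2 ⟨j₂, by rw [mul_comm]; exact h4⟩
  · obtain ⟨w, hw⟩ := Ideal.mem_span_singleton'.1 hi
    have hw2 : w ∈ I₂ := hmk hx₂ (by rw [mul_comm, hw]; exact h₂)
    have hw1 : t - w ∈ I₁ := hmk hx₁ (by
      rw [show x * (t - w) = i₁ by rw [mul_sub, ← he, mul_comm x w, hw]; ring]
      exact h₁)
    exact Submodule.mem_sup.2 ⟨t - w, hw1, w, hw2, sub_add_cancel _ _⟩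

/-- Two linked maximal Cohen–Macaulay quotients of a Gorenstein ring: the intersection is Gorenstein. -/
theorem gorenstein_sup : ∀ (e : ℕ) (T : Type u) [CommRing T] [LocCoh.IsGorensteinLocalRing T]
    (_ : ringKrullDim T = (e + 1 : ℕ)) (I₁ I₂ : Ideal T) (_ : ∀ a, a ∈ I₁ → a ∈ I₂ → a = 0)
    (_ : HasSeqIn (maximalIdeal T) (T ⧸ I₁) (e + 1)) (_ : HasSeqIn (maximalIdeal T) (T ⧸ I₂) (e + 1))
    (_ : I₁ ⊔ I₂ ≠ ⊤) (_ : ringKrullDim (T ⧸ (I₁ ⊔ I₂)) ≤ (e : ℕ)),
    LocCoh.IsGorensteinLocalRing (T ⧸ (I₁ ⊔ I₂)) ∧ ringKrullDim (T ⧸ (I₁ ⊔ I₂)) = (e : ℕ) := by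
  intro e
  induction e with
  | zero =>
    intro T _ _ hd I₁ I₂ h0 hI₁ hI₂ hne hG
    let G := T ⧸ (I₁ ⊔ I₂)
    haveI : Nontrivial G := Ideal.Quotient.nontrivial_iff.2 hne
    haveI : IsLocalRing G := IsLocalRing.of_surjective' (Ideal.Quotient.mk _) Ideal.Quotient.mk_surjective
    haveI : Ring.KrullDimLE 0 G := Ring.krullDimLE_iff.2 hG
    haveI : IsArtinianRing G := by
      rw [isArtinianRing_iff_isNoetherianRing_krullDimLE_zero]; exact ⟨inferInstance, inferInstance⟩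
    refine ⟨?_, le_antisymm hG ringKrullDim_nonneg_of_nontrivial⟩
    obtain ⟨rs, hrs, hlen⟩ := GorLib.isCM_of_gorenstein (R := T)
    rw [hd] at hlen
    have hlen' : rs.length = 0 + 1 := by exact_mod_cast hlen.symm
    obtain ⟨x, rs, rfl⟩ := List.exists_cons_of_length_eq_add_one hlen'
    have hxm : x ∈ maximalIdeal T := mem_maximalIdeal_of_isRegular hrs x (List.mem_cons_self ..)
    have hx : IsSMulRegular T x := ((isWeaklyRegular_cons_iff _ _ _).1 hrs.toIsWeaklyRegular).1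
    have hx₁ := GorLib.isSMulRegular_of_mcm hd hI₁ hxm hx
    have hx₂ := GorLib.isSMulRegular_of_mcm hd hI₂ hxm hx
    let T' := T ⧸ Ideal.span {x}
    haveI : Nontrivial T' := Ideal.Quotient.nontrivial_iff.2
      (ne_top_of_le_ne_top (Ideal.IsMaximal.ne_top inferInstance) ((Ideal.span_singleton_le_iff_mem _).2 hxm))
    haveI : IsLocalRing T' := IsLocalRing.of_surjective' (Ideal.Quotient.mk _) Ideal.Quotient.mk_surjective
    haveI : LocCoh.IsGorensteinLocalRing T' := (GorLib.gorenstein_quotient_iff hx hxm).1 inferInstance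
    haveI : Ring.KrullDimLE 0 T' := by
      have h1 := ringKrullDim_quotient_span_singleton_succ_eq_ringKrullDim hx hxm
      obtain ⟨k, hk⟩ := exists_ringKrullDim_eq (R := T')
      rw [hk, hd] at h1
      have hk0 : k = 0 := Nat.succ_injective (by exact_mod_cast h1)
      exact Ring.krullDimLE_iff.2 (by rw [hk, hk0])
    haveI : IsArtinianRing T' := by
      rw [isArtinianRing_iff_isNoetherianRing_krullDimLE_zero]; exact ⟨inferInstance, inferInstance⟩
    obtain ⟨σ, hσ0, hσ, hgen⟩ := (GorLib.gorenstein_iff_socCyclic (R := T')).1 inferInstance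
    have hmax : ∀ (J : Ideal T) [IsLocalRing (T ⧸ J)] (m : T), m ∈ maximalIdeal T →
        Ideal.Quotient.mk J m ∈ maximalIdeal (T ⧸ J) := fun J _ m hm => by
      rw [← IsLocalRing.map_maximalIdeal_of_surjective (Ideal.Quotient.mk J) Ideal.Quotient.mk_surjective]
      exact Ideal.mem_map_of_mem _ hm
    have hmax' : ∀ (J : Ideal T) [IsLocalRing (T ⧸ J)] (m : T), Ideal.Quotient.mk J m ∈ maximalIdeal (T ⧸ J) →
        m ∈ maximalIdeal T := fun J _ m hm => by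
      rw [mem_maximalIdeal, mem_nonunits_iff] at hm ⊢
      exact fun hu => hm (hu.map _)
    -- the class in the socle of `T/(x)` of an element of the socle of `G`
    have hcl : ∀ t : T, (∀ m ∈ maximalIdeal T, m * t ∈ I₁ ⊔ I₂) → ∃ i₁ ∈ I₁, ∃ i₂ ∈ I₂, ∃ c : T,
        x * t = i₁ + i₂ ∧ Ideal.Quotient.mk (Ideal.span {x}) i₂ = Ideal.Quotient.mk _ c * σ ∧
        (i₂ ∈ Ideal.span {x} → t ∈ I₁ ⊔ I₂) := by
      intro t ht
      obtain ⟨i₁, h₁, i₂, h₂, he, hs, hz⟩ := socle_lift h0 hxm hx₁ hx₂ ht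
      obtain ⟨c, hc⟩ := Ideal.mem_span_singleton'.1 (hgen (Ideal.Quotient.mk (Ideal.span {x}) i₂) fun a ha => by
        obtain ⟨a, rfl⟩ := Ideal.Quotient.mk_surjective a
        rw [← map_mul, Ideal.Quotient.eq_zero_iff_mem]
        exact hs a (hmax' _ a ha))
      obtain ⟨c, rfl⟩ := Ideal.Quotient.mk_surjective c
      exact ⟨i₁, h₁, i₂, h₂, c, he, hc.symm, hz⟩
    obtain ⟨p, hp⟩ := associatedPrimes.nonempty G G
    obtain ⟨hpp, s, hsp⟩ := isAssociatedPrime_iff.1 hp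
    haveI := hpp
    have hpm : p = maximalIdeal G := IsLocalRing.eq_maximalIdeal inferInstance
    have hs0 : s ≠ 0 := by
      rintro rfl
      refine hpp.ne_top ((Ideal.eq_top_iff_one _).2 ?_)
      rw [hsp, Submodule.mem_colon_singleton, Submodule.mem_bot, one_smul]
    have hskill : ∀ a ∈ maximalIdeal G, a * s = 0 := fun a ha => by
      rw [← hpm, hsp, Submodule.mem_colon_singleton, Submodule.mem_bot] at ha
      exact ha
    refine GorLib.gorenstein_iff_socCyclic.2 ⟨s, hs0, hskill, fun y hy => ?_⟩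
    obtain ⟨s, rfl⟩ := Ideal.Quotient.mk_surjective s
    obtain ⟨y, rfl⟩ := Ideal.Quotient.mk_surjective y
    have hs' : ∀ m ∈ maximalIdeal T, m * s ∈ I₁ ⊔ I₂ := fun m hm => by
      rw [← Ideal.Quotient.eq_zero_iff_mem, map_mul]; exact hskill _ (hmax _ m hm)
    have hy' : ∀ m ∈ maximalIdeal T, m * y ∈ I₁ ⊔ I₂ := fun m hm => by
      rw [← Ideal.Quotient.eq_zero_iff_mem, map_mul]; exact hy _ (hmax _ m hm)
    obtain ⟨a₁, ha₁, a₂, ha₂, u, hau, hu, hsz⟩ := hcl s hs'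
    obtain ⟨b₁, hb₁, b₂, hb₂, c, hbc, hc, -⟩ := hcl y hy'
    have hunit : IsUnit u := by
      by_contra hn
      refine hs0 (Ideal.Quotient.eq_zero_iff_mem.2 (hsz (Ideal.Quotient.eq_zero_iff_mem.1 ?_)))
      rw [hu]
      exact hσ _ (hmax _ u ((mem_maximalIdeal u).2 hn))
    obtain ⟨u, rfl⟩ := hunit
    set w : T := c * (↑u⁻¹ : T) with hw
    refine Ideal.mem_span_singleton'.2 ⟨Ideal.Quotient.mk _ w, ?_⟩
    rw [← map_mul, eq_comm, Ideal.Quotient.eq]
    have hd' : ∀ m ∈ maximalIdeal T, m * (y - w * s) ∈ I₁ ⊔ I₂ := fun m hm => by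
      rw [mul_sub, mul_left_comm]
      exact Submodule.sub_mem _ (hy' m hm) (Ideal.mul_mem_left _ w (hs' m hm))
    obtain ⟨d₁, hd₁, d₂, hd₂, -, hde, -, hdz⟩ := hcl _ hd'
    refine hdz ?_
    have h5 : d₂ - (b₂ - w * a₂) = (b₁ - w * a₁) - d₁ := by linear_combination hbc - w * hau - hde
    have h6 := h0 _ (h5 ▸ I₁.sub_mem (I₁.sub_mem hb₁ (I₁.mul_mem_left _ ha₁)) hd₁ : d₂ - (b₂ - w * a₂) ∈ I₁)
      (I₂.sub_mem hd₂ (I₂.sub_mem hb₂ (I₂.mul_mem_left _ ha₂)))
    rw [sub_eq_zero.1 h6, ← Ideal.Quotient.eq_zero_iff_mem, map_sub, map_mul, hc, hu, hw, map_mul]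
    rw [show Ideal.Quotient.mk (Ideal.span {x}) c * Ideal.Quotient.mk _ (↑u⁻¹ : T) * (Ideal.Quotient.mk _ (↑u : T) * σ) =
      Ideal.Quotient.mk (Ideal.span {x}) c * Ideal.Quotient.mk _ ((↑u⁻¹ : T) * ↑u) * σ by rw [map_mul]; ring,
      Units.inv_mul, map_one, mul_one, sub_self]
  | succ e ih =>
    intro T _ _ hd I₁ I₂ h0 hI₁ hI₂ hne hG
    let G := T ⧸ (I₁ ⊔ I₂)
    haveI : Nontrivial G := Ideal.Quotient.nontrivial_iff.2 hne
    haveI : IsLocalRing G := IsLocalRing.of_surjective' (Ideal.Quotient.mk _) Ideal.Quotient.mk_surjective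
    obtain ⟨rs, hrs, hlen⟩ := GorLib.isCM_of_gorenstein (R := T)
    rw [hd] at hlen
    have hlen' : rs.length = (e + 1) + 1 := by exact_mod_cast hlen.symm
    obtain ⟨x₀, rs, rfl⟩ := List.exists_cons_of_length_eq_add_one hlen'
    obtain ⟨x₁, rs, rfl⟩ := List.exists_cons_of_length_eq_add_one (Nat.succ_injective hlen')
    have hx0m : x₀ ∈ maximalIdeal T := mem_maximalIdeal_of_isRegular hrs x₀ (List.mem_cons_self ..)
    have hx1m : x₁ ∈ maximalIdeal T :=
      mem_maximalIdeal_of_isRegular hrs x₁ (List.mem_cons_of_mem _ (List.mem_cons_self ..))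
    obtain ⟨hx0, hrest⟩ := (isWeaklyRegular_cons_iff _ _ _).1 hrs.toIsWeaklyRegular
    have hx1 := ((isWeaklyRegular_cons_iff _ _ _).1 hrest).1
    have hex : ∀ p ∈ associatedPrimes T (T × G), ¬ maximalIdeal T ≤ p := by
      intro p hp hle
      obtain ⟨hpp, ⟨v, g⟩, hv⟩ := isAssociatedPrime_iff.1 hp
      have hkill : ∀ m ∈ maximalIdeal T, m * v = 0 ∧ m • g = 0 := fun m hm => by
        have h := hle hm
        rw [hv, Submodule.mem_colon_singleton, Submodule.mem_bot] at h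
        exact ⟨congrArg Prod.fst h, congrArg Prod.snd h⟩
      have hv0 : v = 0 := hx0.right_eq_zero_of_smul (hkill x₀ hx0m).1
      have hg0 : g = 0 := by
        obtain ⟨t, rfl⟩ := Ideal.Quotient.mk_surjective g
        have ht : ∀ m ∈ maximalIdeal T, m * t ∈ I₁ ⊔ I₂ := fun m hm =>
          Ideal.Quotient.eq_zero_iff_mem.1 (hkill m hm).2
        obtain ⟨i₁, -, i₂, -, -, hs, hz⟩ := socle_lift h0 hx0m
          (GorLib.isSMulRegular_of_mcm hd hI₁ hx0m hx0) (GorLib.isSMulRegular_of_mcm hd hI₂ hx0m hx0) ht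
        refine Ideal.Quotient.eq_zero_iff_mem.2 (hz ?_)
        have h7 := hx1.right_eq_zero_of_smul (x := (Submodule.Quotient.mk i₂ : QuotSMulTop x₀ T)) (by
          rw [← Submodule.Quotient.mk_smul, Submodule.Quotient.mk_eq_zero, Submodule.mem_smul_pointwise_iff_exists]
          obtain ⟨c, hc⟩ := Ideal.mem_span_singleton'.1 (hs x₁ hx1m)
          exact ⟨c, trivial, by rw [smul_eq_mul, smul_eq_mul, mul_comm x₀]; exact hc⟩)
        rw [Submodule.Quotient.mk_eq_zero, Submodule.mem_smul_pointwise_iff_exists] at h7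
        obtain ⟨c, -, hc⟩ := h7
        exact Ideal.mem_span_singleton'.2 ⟨c, by rw [mul_comm]; exact hc⟩
      refine hpp.ne_top ((Ideal.eq_top_iff_one _).2 ?_)
      rw [hv, hv0, hg0, Submodule.mem_colon_singleton, Submodule.mem_bot, one_smul]
      rfl
    obtain ⟨x, hxm, hxr⟩ := exists_isSMulRegular_mem hex
    have hxT : IsSMulRegular T x := fun a b h =>
      congrArg Prod.fst (hxr (show x • ((a, 0) : T × G) = x • (b, 0) from Prod.ext h rfl))
    have hxG : IsSMulRegular G x := fun a b h =>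
      congrArg Prod.snd (hxr (show x • ((0, a) : T × G) = x • (0, b) from Prod.ext rfl h))
    have hx₁ := GorLib.isSMulRegular_of_mcm hd hI₁ hxm hxT
    have hx₂ := GorLib.isSMulRegular_of_mcm hd hI₂ hxm hxT
    let T' := T ⧸ Ideal.span {x}
    let π : T →+* T' := Ideal.Quotient.mk _
    haveI : Nontrivial T' := Ideal.Quotient.nontrivial_iff.2
      (ne_top_of_le_ne_top (Ideal.IsMaximal.ne_top inferInstance) ((Ideal.span_singleton_le_iff_mem _).2 hxm))
    haveI : IsLocalRing T' := IsLocalRing.of_surjective' π Ideal.Quotient.mk_surjective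
    haveI : LocCoh.IsGorensteinLocalRing T' := (GorLib.gorenstein_quotient_iff hxT hxm).1 inferInstance
    have hd' : ringKrullDim T' = (e + 1 : ℕ) := by
      have h1 := ringKrullDim_quotient_span_singleton_succ_eq_ringKrullDim hxT hxm
      obtain ⟨k, hk⟩ := exists_ringKrullDim_eq (R := T')
      rw [hk, hd] at h1
      have : k = e + 1 := Nat.succ_injective (by exact_mod_cast h1)
      rw [hk, this]
    have hmem : ∀ (I : Ideal T) (a : T), π a ∈ I.map π ↔ a ∈ I ⊔ Ideal.span {x} := fun I a => by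
      rw [← Ideal.mem_comap, Ideal.comap_map_of_surjective π Ideal.Quotient.mk_surjective,
        ← RingHom.ker_eq_comap_bot, Ideal.mk_ker]
    have h0' : ∀ a, a ∈ I₁.map π → a ∈ I₂.map π → a = 0 := by
      intro a h₁ h₂
      obtain ⟨a, rfl⟩ := Ideal.Quotient.mk_surjective a
      obtain ⟨a₁, ha₁, r₁, hr₁, he₁⟩ := Submodule.mem_sup.1 ((hmem I₁ a).1 h₁)
      obtain ⟨a₂, ha₂, r₂, hr₂, he₂⟩ := Submodule.mem_sup.1 ((hmem I₂ a).1 h₂)
      obtain ⟨c₁, rfl⟩ := Ideal.mem_span_singleton'.1 hr₁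
      obtain ⟨c₂, rfl⟩ := Ideal.mem_span_singleton'.1 hr₂
      have h8 : x * (c₂ - c₁) = a₁ - a₂ := by linear_combination he₂ - he₁
      have h9 : x * (c₂ - c₁) ∈ I₁ ⊔ I₂ := h8 ▸
        Submodule.sub_mem _ (Submodule.mem_sup_left ha₁) (Submodule.mem_sup_right ha₂)
      have h10 : c₂ - c₁ ∈ I₁ ⊔ I₂ := Ideal.Quotient.eq_zero_iff_mem.1
        (hxG.right_eq_zero_of_smul (Ideal.Quotient.eq_zero_iff_mem.2 h9))
      obtain ⟨j₁, hj₁, j₂, hj₂, hj⟩ := Submodule.mem_sup.1 h10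
      have h11 : a₁ - x * j₁ = a₂ + x * j₂ := by linear_combination -h8 - x * hj
      have h12 := h0 _ (I₁.sub_mem ha₁ (I₁.mul_mem_left x hj₁)) (h11 ▸ I₂.add_mem ha₂ (I₂.mul_mem_left x hj₂))
      refine Ideal.Quotient.eq_zero_iff_mem.2 ?_
      rw [← he₁]
      exact add_mem (Ideal.mem_span_singleton'.2 ⟨j₁, by linear_combination -h12⟩)
        (Ideal.mem_span_singleton'.2 ⟨c₁, rfl⟩)
    have hne' : I₁.map π ⊔ I₂.map π ≠ ⊤ := fun h => by
      rw [← Ideal.map_sup] at h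
      have h13 : (1 : T) ∈ I₁ ⊔ I₂ ⊔ Ideal.span {x} := (hmem _ 1).1 (h ▸ Submodule.mem_top)
      exact (Ideal.IsMaximal.ne_top inferInstance : maximalIdeal T ≠ ⊤) ((Ideal.eq_top_iff_one _).2
        ((sup_le (IsLocalRing.le_maximalIdeal hne) ((Ideal.span_singleton_le_iff_mem _).2 hxm)) h13))
    have hxGm : Ideal.Quotient.mk (I₁ ⊔ I₂) x ∈ maximalIdeal G := by
      rw [← IsLocalRing.map_maximalIdeal_of_surjective (Ideal.Quotient.mk (I₁ ⊔ I₂)) Ideal.Quotient.mk_surjective]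
      exact Ideal.mem_map_of_mem _ hxm
    have hxGr : IsSMulRegular G (Ideal.Quotient.mk (I₁ ⊔ I₂) x) := fun a b h => hxG (by
      obtain ⟨a, rfl⟩ := Ideal.Quotient.mk_surjective a
      obtain ⟨b, rfl⟩ := Ideal.Quotient.mk_surjective b
      show Ideal.Quotient.mk _ (x * a) = Ideal.Quotient.mk _ (x * b)
      rw [map_mul, map_mul]; exact h)
    let eG : (G ⧸ Ideal.span {Ideal.Quotient.mk (I₁ ⊔ I₂) x}) ≃+* (T' ⧸ (I₁.map π ⊔ I₂.map π)) :=
      ((Ideal.quotEquivOfEq (by rw [Ideal.map_span, Set.image_singleton])).trans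
        (DoubleQuot.quotQuotEquivComm (I₁ ⊔ I₂) (Ideal.span {x}))).trans
        (Ideal.quotEquivOfEq (by rw [Ideal.map_sup]))
    have hdimG := ringKrullDim_quotient_span_singleton_succ_eq_ringKrullDim hxGr hxGm
    rw [ringKrullDim_eq_of_ringEquiv eG] at hdimG
    haveI : Nontrivial (T' ⧸ (I₁.map π ⊔ I₂.map π)) := Ideal.Quotient.nontrivial_iff.2 hne'
    haveI : IsLocalRing (T' ⧸ (I₁.map π ⊔ I₂.map π)) :=
      IsLocalRing.of_surjective' (Ideal.Quotient.mk _) Ideal.Quotient.mk_surjective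
    obtain ⟨k, hk⟩ := exists_ringKrullDim_eq (R := T' ⧸ (I₁.map π ⊔ I₂.map π))
    have hke : ringKrullDim (T' ⧸ (I₁.map π ⊔ I₂.map π)) ≤ (e : ℕ) := by
      rw [← hdimG, hk] at hG
      rw [hk]
      exact_mod_cast (show k ≤ e from Nat.le_of_succ_le_succ (by exact_mod_cast hG))
    obtain ⟨hG', hdim'⟩ := ih T' hd' (I₁.map π) (I₂.map π) h0' (hasSeqIn_quot hxm I₁ hI₁ hx₁)
      (hasSeqIn_quot hxm I₂ hI₂ hx₂) hne' hke
    refine ⟨(GorLib.gorenstein_quotient_iff hxGr hxGm).2 (GorLib.gorenstein_of_ringEquiv eG hG'), ?_⟩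
    rw [← hdimG, hdim']
    push_cast
    rfl

theorem gorensteinRing_sup {A : Type u} [CommRing A] [IsRegularRing A] {I₁ I₂ : Ideal A} {c : ℕ}
    (hG : LocCoh.IsGorensteinRing (A ⧸ (I₁ ⊓ I₂))) (hCM₁ : LocCoh.IsCohenMacaulayRing (A ⧸ I₁))
    (hCM₂ : LocCoh.IsCohenMacaulayRing (A ⧸ I₂)) (hne : I₁ ⊔ I₂ ≠ ⊤)
    (hh₁ : ∀ P ∈ I₁.minimalPrimes, P.height = c) (hh₂ : ∀ P ∈ I₂.minimalPrimes, P.height = c)
    (hdisj : Disjoint I₁.minimalPrimes I₂.minimalPrimes) :
    (I₁ ⊔ I₂).height = c + 1 ∧ LocCoh.IsGorensteinRing (A ⧸ (I₁ ⊔ I₂)) := by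
  classical
  haveI : IsNoetherianRing A := inferInstance
  have hne₂ : I₂ ≠ ⊤ := ne_top_of_le_ne_top hne le_sup_right
  -- minimal primes of `I₁` are minimal over the intersection
  have hmin : ∀ P ∈ I₁.minimalPrimes, P ∈ (I₁ ⊓ I₂).minimalPrimes := by
    intro P hPm
    haveI := hPm.1.1
    refine Ideal.mem_minimalPrimes_of_height_le (inf_le_left.trans hPm.1.2) ?_
    rw [hh₁ P hPm, Ideal.height_eq_inf_minimalPrimes (I := I₁ ⊓ I₂)]
    refine le_iInf₂ fun Q hQ => ?_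
    haveI := hQ.1.1
    rcases (Ideal.IsPrime.inf_le hQ.1.1).1 hQ.1.2 with h | h
    · obtain ⟨R, hR, hRQ⟩ := Ideal.exists_minimalPrimes_le h
      exact hh₁ R hR ▸ Ideal.height_mono hRQ
    · obtain ⟨R, hR, hRQ⟩ := Ideal.exists_minimalPrimes_le h
      exact hh₂ R hR ▸ Ideal.height_mono hRQ
  -- an element of `I₂` outside all minimal primes of `I₁`
  obtain ⟨f, hfI₂, hf⟩ : ∃ f ∈ I₂, ∀ P ∈ I₁.minimalPrimes, f ∉ P := by
    by_contra hcon
    push Not at hcon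
    have hsub : (I₂ : Set A) ⊆ ⋃ P ∈ I₁.minimalPrimes, (P : Set A) := fun x hx => by
      obtain ⟨P, hPm, hxP⟩ := hcon x hx
      exact Set.mem_iUnion₂.2 ⟨P, hPm, hxP⟩
    obtain ⟨P, hPm, hle⟩ := (Ideal.subset_union_prime_finite I₁.finite_minimalPrimes_of_isNoetherianRing ⊥ ⊥
      (fun P hPm _ _ => hPm.1.1)).1 hsub
    haveI := hPm.1.1
    refine Set.disjoint_left.1 hdisj hPm (Ideal.mem_minimalPrimes_of_height_le hle ?_)
    rw [hh₁ P hPm, LiaisonLib.height_eq_of_forall hne₂ hh₂]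
  have hnzd : ∀ x, x * f ∈ I₁ → x ∈ I₁ := by
    intro x hx
    by_contra hxI
    obtain ⟨P, hPa, hPx⟩ := exists_le_isAssociatedPrime_of_isNoetherianRing A (M := A ⧸ I₁) (Ideal.Quotient.mk I₁ x)
      (fun h => hxI (Ideal.Quotient.eq_zero_iff_mem.1 h))
    refine hf P (LiaisonLib.minimal_of_mem_associatedPrimes hCM₁ hPa) (hPx ?_)
    rw [Submodule.mem_colon_singleton, Submodule.mem_bot]
    show Ideal.Quotient.mk I₁ (f * x) = 0
    rw [Ideal.Quotient.eq_zero_iff_mem, mul_comm]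
    exact hx
  -- the local statement
  have key : ∀ (M : Ideal A) [M.IsPrime], I₁ ⊔ I₂ ≤ M → ∃ e : ℕ,
      LocCoh.IsGorensteinLocalRing
        (Localization.AtPrime M ⧸ (I₁ ⊔ I₂).map (algebraMap A (Localization.AtPrime M))) ∧
      ringKrullDim (Localization.AtPrime M ⧸ (I₁ ⊔ I₂).map (algebraMap A (Localization.AtPrime M))) = (e : ℕ) ∧
      ringKrullDim (Localization.AtPrime M) = (e + 1 + c : ℕ) := by
    intro M _ hM
    let B := Localization.AtPrime M
    haveI : IsNoetherianRing B := IsLocalization.isNoetherianRing M.primeCompl _ inferInstance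
    let al := algebraMap A B
    let π := Ideal.Quotient.mk ((I₁ ⊓ I₂).map al)
    let T := B ⧸ (I₁ ⊓ I₂).map al
    have hIM : I₁ ⊓ I₂ ≤ M := inf_le_left.trans (le_sup_left.trans hM)
    obtain ⟨hq, ⟨eG⟩⟩ := LiaisonLib.exists_quot_equiv hIM
    haveI := hq
    haveI hT : LocCoh.IsGorensteinLocalRing T :=
      GorLib.gorenstein_of_ringEquiv eG (hG.isGorensteinLocalRing_localization (M.map (Ideal.Quotient.mk _)))
    let T₁ : Ideal T := (I₁.map al).map π
    let T₂ : Ideal T := (I₂.map al).map π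
    have hle₁ : (I₁ ⊓ I₂).map al ≤ I₁.map al := Ideal.map_mono inf_le_left
    have hle₂ : (I₁ ⊓ I₂).map al ≤ I₂.map al := Ideal.map_mono inf_le_right
    obtain ⟨d, hd⟩ := CommAlgDim.exists_ringKrullDim_eq (R := T)
    obtain ⟨P₁, hP₁, hP₁M⟩ := Ideal.exists_minimalPrimes_le (le_sup_left.trans hM)
    obtain ⟨P₂, hP₂, hP₂M⟩ := Ideal.exists_minimalPrimes_le (le_sup_right.trans hM)
    have hA := LiaisonLib.ringKrullDim_quotient_map_add_height (LiaisonLib.isCohenMacaulayRing_of_gorenstein hG)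
      (hmin P₁ hP₁) hP₁M
    rw [hh₁ P₁ hP₁, hd] at hA
    have hdim : ∀ (J P : Ideal A) (hle : (I₁ ⊓ I₂).map al ≤ J.map al), LocCoh.IsCohenMacaulayRing (A ⧸ J) → J ≤ M →
        P ∈ J.minimalPrimes → P ≤ M → P.height = c →
        ringKrullDim (B ⧸ J.map al) = d ∧
        CommAlgDim.HasSeqIn (R := T) (IsLocalRing.maximalIdeal T) (T ⧸ (J.map al).map π) d := by
      intro J P hle hJ hJM hPm hPM hPc
      have hB := LiaisonLib.ringKrullDim_quotient_map_add_height hJ hPm hPM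
      rw [hPc] at hB
      obtain ⟨hqJ, ⟨eJ⟩⟩ := LiaisonLib.exists_quot_equiv hJM
      haveI := hqJ
      haveI := hJ.isCohenMacaulayLocalRing_localization (M.map (Ideal.Quotient.mk J))
      haveI := SMTLib.isCohenMacaulayLocalRing_of_ringEquiv eJ.symm
      obtain ⟨k, hk⟩ := CommAlgDim.exists_ringKrullDim_eq (R := B ⧸ J.map al)
      rw [hk, ← hA] at hB
      have hkd : k + c = d + c := by exact_mod_cast hB
      obtain rfl : k = d := Nat.add_right_cancel hkd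
      let e2 : (T ⧸ (J.map al).map π) ≃+* (B ⧸ J.map al) := DoubleQuot.quotQuotEquivQuotOfLE hle
      haveI : LocCoh.IsCohenMacaulayLocalRing (T ⧸ (J.map al).map π) :=
        SMTLib.isCohenMacaulayLocalRing_of_ringEquiv e2.symm
      exact ⟨hk, GorLib.hasSeqIn_of_cm _ (by rw [ringKrullDim_eq_of_ringEquiv e2]; exact hk)⟩
    obtain ⟨hd₁, hs₁⟩ := hdim I₁ P₁ hle₁ hCM₁ (le_sup_left.trans hM) hP₁ hP₁M (hh₁ P₁ hP₁)
    obtain ⟨-, hs₂⟩ := hdim I₂ P₂ hle₂ hCM₂ (le_sup_right.trans hM) hP₂ hP₂M (hh₂ P₂ hP₂)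
    have hlift : ∀ (J : Ideal A) (b : B), (I₁ ⊓ I₂).map al ≤ J.map al →
        (π b ∈ (J.map al).map π ↔ b ∈ J.map al) := fun J b hle => by
      rw [← Ideal.mem_comap, Ideal.comap_map_of_surjective π Ideal.Quotient.mk_surjective, ← RingHom.ker_eq_comap_bot,
        Ideal.mk_ker, sup_eq_left.2 hle]
    have h0 : ∀ a, a ∈ T₁ → a ∈ T₂ → a = 0 := by
      intro a ha₁ ha₂
      obtain ⟨b, rfl⟩ := Ideal.Quotient.mk_surjective a
      obtain ⟨b, s, rfl⟩ := IsLocalization.exists_mk'_eq M.primeCompl b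
      rw [hlift I₁ _ hle₁, IsLocalization.mk'_mem_map_algebraMap_iff] at ha₁
      rw [hlift I₂ _ hle₂, IsLocalization.mk'_mem_map_algebraMap_iff] at ha₂
      obtain ⟨u, hu, hu₁⟩ := ha₁
      obtain ⟨v, hv, hv₂⟩ := ha₂
      rw [Ideal.Quotient.eq_zero_iff_mem, IsLocalization.mk'_mem_map_algebraMap_iff]
      exact ⟨u * v, mul_mem hu hv, by rw [mul_right_comm]; exact I₁.mul_mem_right _ hu₁,
        by rw [mul_assoc]; exact I₂.mul_mem_left _ hv₂⟩
    have hsum : ((I₁ ⊔ I₂).map al).map π = T₁ ⊔ T₂ := by rw [Ideal.map_sup, Ideal.map_sup]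
    let eS : (T ⧸ (T₁ ⊔ T₂)) ≃+* (B ⧸ (I₁ ⊔ I₂).map al) :=
      (Ideal.quotEquivOfEq hsum.symm).trans (DoubleQuot.quotQuotEquivQuotOfLE (hle₁.trans (Ideal.map_mono le_sup_left)))
    have hneB : (I₁ ⊔ I₂).map al ≤ IsLocalRing.maximalIdeal B := by
      rw [← Localization.AtPrime.map_eq_maximalIdeal]
      exact Ideal.map_mono hM
    haveI : Nontrivial (B ⧸ (I₁ ⊔ I₂).map al) :=
      Ideal.Quotient.nontrivial_iff.2 (ne_top_of_le_ne_top (Ideal.IsMaximal.ne_top inferInstance) hneB)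
    haveI : IsLocalRing (B ⧸ (I₁ ⊔ I₂).map al) :=
      IsLocalRing.of_surjective' (Ideal.Quotient.mk _) Ideal.Quotient.mk_surjective
    have hne : T₁ ⊔ T₂ ≠ ⊤ := fun h =>
      not_subsingleton (B ⧸ (I₁ ⊔ I₂).map al) (haveI := Ideal.Quotient.subsingleton_iff.2 h; eS.symm.toEquiv.subsingleton)
    have hr : Ideal.Quotient.mk (I₁.map al) (al f) ∈ nonZeroDivisors (B ⧸ I₁.map al) := by
      rw [mem_nonZeroDivisors_iff_right]
      intro z hz
      obtain ⟨z, rfl⟩ := Ideal.Quotient.mk_surjective z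
      obtain ⟨b, s, rfl⟩ := IsLocalization.exists_mk'_eq M.primeCompl z
      rw [← map_mul, Ideal.Quotient.eq_zero_iff_mem, mul_comm, IsLocalization.mul_mk'_eq_mk'_of_mul,
        IsLocalization.mk'_mem_map_algebraMap_iff] at hz
      obtain ⟨u, hu, huf⟩ := hz
      rw [Ideal.Quotient.eq_zero_iff_mem, IsLocalization.mk'_mem_map_algebraMap_iff]
      exact ⟨u, hu, hnzd _ (by rw [mul_assoc, mul_comm b]; exact huf)⟩
    have hlt := ringKrullDim_succ_le_of_surjective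
      (Ideal.Quotient.factor (Ideal.map_mono le_sup_left : I₁.map al ≤ (I₁ ⊔ I₂).map al))
      (Ideal.Quotient.factor_surjective _) hr (by
        rw [Ideal.Quotient.factor_mk, Ideal.Quotient.eq_zero_iff_mem]
        exact Ideal.mem_map_of_mem al (Ideal.mem_sup_right hfI₂))
    rw [hd₁] at hlt
    obtain ⟨g, hg⟩ := CommAlgDim.exists_ringKrullDim_eq (R := B ⧸ (I₁ ⊔ I₂).map al)
    rw [hg] at hlt
    have hgd : g + 1 ≤ d := by exact_mod_cast hlt
    obtain ⟨e, rfl⟩ : ∃ e, d = e + 1 := ⟨d - 1, by omega⟩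
    obtain ⟨hGor, hde⟩ := CMLinkLib.gorenstein_sup e T hd T₁ T₂ h0 hs₁ hs₂ hne (by
      rw [ringKrullDim_eq_of_ringEquiv eS, hg]
      exact_mod_cast Nat.le_of_succ_le_succ hgd)
    refine ⟨e, GorLib.gorenstein_of_ringEquiv eS.symm hGor, by rw [← ringKrullDim_eq_of_ringEquiv (R := T ⧸ (T₁ ⊔ T₂)) eS, hde], ?_⟩
    rw [← hA]
    push_cast
    rfl
  refine ⟨?_, ⟨fun Q hQ => ?_⟩⟩
  · refine (LiaisonLib.height_eq_of_forall hne (c := c + 1) fun M hMm => ?_).trans (by push_cast; rfl)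
    haveI := hMm.1.1
    obtain ⟨e, -, hde, hdB⟩ := key M hMm.1.2
    let B := Localization.AtPrime M
    have hmax : IsLocalRing.maximalIdeal B ∈ ((I₁ ⊔ I₂).map (algebraMap A B)).minimalPrimes := by
      rw [IsLocalization.minimalPrimes_map M.primeCompl B, Set.mem_preimage, IsLocalization.AtPrime.under_maximalIdeal B M]
      exact hMm
    have hq := CatLib.map_mem_minimalPrimes hmax
    haveI : Nontrivial (B ⧸ (I₁ ⊔ I₂).map (algebraMap A B)) :=
      Ideal.Quotient.nontrivial_iff.2 (ne_top_of_le_ne_top (Ideal.IsMaximal.ne_top inferInstance) hmax.1.2)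
    haveI : IsLocalRing (B ⧸ (I₁ ⊔ I₂).map (algebraMap A B)) :=
      IsLocalRing.of_surjective' (Ideal.Quotient.mk _) Ideal.Quotient.mk_surjective
    rw [IsLocalRing.map_maximalIdeal_of_surjective _ Ideal.Quotient.mk_surjective] at hq
    rw [← IsLocalRing.maximalIdeal_height_eq_ringKrullDim (R := B ⧸ (I₁ ⊔ I₂).map (algebraMap A B)),
      Ideal.height_eq_zero_iff.2 hq] at hde
    have he0 : e = 0 := by exact_mod_cast hde.symm
    subst he0
    rw [IsLocalization.AtPrime.ringKrullDim_eq_height M B] at hdB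
    have h3 : M.height = ((0 + 1 + c : ℕ) : ℕ∞) := by exact_mod_cast hdB
    rw [h3, zero_add, add_comm]
  · let M := Q.comap (Ideal.Quotient.mk (I₁ ⊔ I₂))
    haveI : M.IsPrime := Ideal.IsPrime.comap _
    have hZM : I₁ ⊔ I₂ ≤ M := fun x hx => by
      rw [Ideal.mem_comap, Ideal.Quotient.eq_zero_iff_mem.2 hx]; exact Q.zero_mem
    obtain ⟨hp, ⟨e⟩⟩ := LiaisonLib.exists_quot_equiv hZM
    have hMP : M.map (Ideal.Quotient.mk (I₁ ⊔ I₂)) = Q := Ideal.map_comap_of_surjective _ Ideal.Quotient.mk_surjective _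
    obtain ⟨k, hk, -, -⟩ := key M hZM
    have h4 : LocCoh.IsGorensteinLocalRing (Localization.AtPrime (M.map (Ideal.Quotient.mk (I₁ ⊔ I₂)))) :=
      GorLib.gorenstein_of_ringEquiv e.symm hk
    revert h4
    generalize hQ' : M.map (Ideal.Quotient.mk (I₁ ⊔ I₂)) = Q' at hp
    obtain rfl := hQ'.symm.trans hMP
    exact id

end CMLinkLib
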